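import Cfsg.Agent.E8A.Fix.Iface
import Cfsg.Agent.E8A.Fix.Kem

/-!
# S5772, S5930: the boxes of the case analysis (helper13)

See `notes/E8A/cases.md`.
-/

set_option autoImplicit false

namespace Cfsg.Agent.E8A

open Cfsg Cfsg.Lie Module
open Cfsg.Agent.H952.F4 (MaxAlt)
open Cfsg.Agent.H288.E8L (Q8)

universe u

/-- the alternating group -/
abbrev Alt (n : ℕ) : Type := ↥(alternatingGroup (Fin n))

/-- no fixed vectors on the adjoint module -/
def NoFx {K : Type u} [Field K] {n : ℕ} (φ : Alt n →* G8 K) : Prop := ∀ v : L8 K, (∀ a, act (φ a) v = v) → v = 0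

/-- **PAR**: the alternating group lies in no proper parabolic subgroup of the algebraic group. -/
def PAR : Prop := ∀ (F : Type u) [Field F] [Finite F] (H : Subgroup (G8 F)) (n : ℕ) (φ : Alt n →* G8 F),
  MaxAlt H n φ → 5 ≤ n → NoFx φ → ∀ (g : G8 (Kb F)) (lam : Q8 →+ ℝ), lam ≠ 0 →
  (∀ a, g * emb0 (φ a) * g⁻¹ ∈ Kem.St (Kb F) lam) → False

/-- **PARW**: the alternating group stabilizes no subspace of the nilradical of a Borel subalgebra. -/
def PARW : Prop := ∀ (F : Type u) [Field F] [Finite F] (H : Subgroup (G8 F)) (n : ℕ) (φ : Alt n →* G8 F),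
  MaxAlt H n φ → 5 ≤ n → NoFx φ → ∀ W : Submodule (Kb F) (L8 (Kb F)), W ≠ ⊥ →
  (∀ a, ∀ w ∈ W, act (emb0 (φ a)) w ∈ W) → (∃ g : G8 (Kb F), ∀ w ∈ W, InN (act g w)) → False

/-- **STAB**: the stabilizer of a proper subspace which is invariant under the maximal subgroup. -/
def STAB : Prop := ∀ (F : Type u) [Field F] [Finite F] (H : Subgroup (G8 F)), IsCoatom H →
  ∀ W : Submodule (Kb F) (L8 (Kb F)), W ≠ ⊥ → W ≠ ⊤ → (∀ h ∈ H, ∀ w ∈ W, act (emb0 h) w ∈ W) →
  ∀ g : G8 F, (∀ w ∈ W, act (emb0 g) w ∈ W) → g ∈ H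

/-- a case: degree `n`, characteristic `p` with `P p` -/
def CASE (n : ℕ) (P : ℕ → Prop) : Prop := ∀ (F : Type u) [Field F] [Finite F] (p : ℕ) [Fact p.Prime] [CharP F p], P p →
  ∀ (H : Subgroup (G8 F)) (φ : Alt n →* G8 F), MaxAlt H n φ → NoFx φ → False

/-- **ODD12**: in odd characteristic the degree is at most 11. -/
def ODD12 : Prop := ∀ (F : Type u) [Field F] [Finite F] (p : ℕ) [Fact p.Prime] [CharP F p], p ≠ 2 →
  ∀ φ : Alt 12 →* G8 F, ¬ Function.Injective φ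

end Cfsg.Agent.E8A
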